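import Cfsg.Prelude.Def_Transfer
import Cfsg.Agent.Transfer.FrobeniusFusion
import Mathlib.RingTheory.IntegralDomain
import Mathlib.FieldTheory.Finite.Basic

/-!
# The finite groups with the fusion system of S5268: properties used to exclude the known simple groups (helper782)

`Hyp p n G` : `p ≥ 3`, `n ≥ 5`; subgroups `P` of order `p ^ n` (Sylow `p`-subgroups) have `|P / P'| = p ^ 2`,
`|Z(P)| = p`; abelian `p`-subgroups have order at most `p ^ (n - 2)`; elementary abelian `p`-subgroups have order at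
most `p ^ (p - 1)`; for every `p`-subgroup `R` of order at least `p ^ 3`, `N_G(R) / C_G(R)` is the extension of a
`p`-group by a subgroup of the cyclic group `(ZMod p)ˣ`.

* `Hyp.congr` : transport;
* `Hyp.false_of_comm`, `Hyp.false_of_surj` : Sylow subgroups are not abelian;
* `Hyp.false_of_abelian` : no abelian `p`-subgroup `A` with `|G|_p ≤ p * |A|`;
* `Hyp.centralize_of_perfect` : a perfect group normalizing `R` centralizes it;
* `Hyp.exists_pow` : `p'`-automorphisms induced on `R` have order dividing `p - 1`;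
* `Hyp.false_of_pair` : no two elements of `N_G(R)` inducing "independent" automorphisms of prime order `r ≠ p`;
* `Hyp.false_of_prod3` : `G` does not contain `X × X × X` with `X` not `p`-nilpotent;
* `Hyp.false_of_prod2` : `G` does not contain `X × X` with a non-`p`-automorphism on a `p`-subgroup of `X` of order at
  least `p ^ 2`.
-/

set_option autoImplicit false

namespace Cfsg.Agent.H782.Exo

open Cfsg

universe u v w

/-- the properties of a finite group realizing the fusion system of S5268 -/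
structure Hyp (p n : ℕ) (G : Type u) [Group G] : Prop where
  prime : p.Prime
  odd : 3 ≤ p
  five : 5 ≤ n
  /-- the order of the Sylow subgroups -/
  val : (Nat.card G).factorization p = n
  /-- the commutator quotient of a Sylow subgroup -/
  derived : ∀ P : Subgroup G, Nat.card P = p ^ n → (commutator P).index = p ^ 2
  /-- the center of a Sylow subgroup -/
  center : ∀ P : Subgroup G, Nat.card P = p ^ n → Nat.card (Subgroup.center P) = p
  /-- abelian `p`-subgroups are small -/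
  ab : ∀ A : Subgroup G, IsMulCommutative A → IsPGroup p A → Nat.card A ≤ p ^ (n - 2)
  /-- elementary abelian `p`-subgroups are small -/
  rank : ∀ A : Subgroup G, Cfsg.IsElementaryAbelian p A → Nat.card A ≤ p ^ (p - 1)
  /-- the automorphisms induced on subgroups of order at least `p ^ 3` -/
  aut : ∀ R : Subgroup G, IsPGroup p R → p ^ 3 ≤ Nat.card R →
    ∃ φ : Subgroup.normalizer (R : Set G) →* (ZMod p)ˣ,
      ∀ g, φ g = 1 ↔ ∃ k : ℕ, ((g : G) ^ p ^ k) ∈ Subgroup.centralizer (R : Set G)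

variable {p n : ℕ} {G : Type u} [Group G]

theorem card_comap {H : Type v} [Group H] (e : G ≃* H) (A : Subgroup H) :
    Nat.card (A.comap e.toMonoidHom) = Nat.card A :=
  Nat.card_congr (A.comap e.toMonoidHom |>.equivMapOfInjective e.toMonoidHom e.injective |>.trans
    (MulEquiv.subgroupCongr (Subgroup.map_comap_eq_self_of_surjective e.surjective A))).toEquiv

/-- the subgroup `A` and its preimage -/
noncomputable def comapEquiv {H : Type v} [Group H] (e : G ≃* H) (A : Subgroup H) :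
    A.comap e.toMonoidHom ≃* A :=
  (A.comap e.toMonoidHom).equivMapOfInjective e.toMonoidHom e.injective |>.trans
    (MulEquiv.subgroupCongr (Subgroup.map_comap_eq_self_of_surjective e.surjective A))

theorem coe_comapEquiv {H : Type v} [Group H] (e : G ≃* H) (A : Subgroup H) (x : A.comap e.toMonoidHom) :
    ((comapEquiv e A x : A) : H) = e (x : G) := rfl

theorem index_commutator_congr {P : Type u} {Q : Type v} [Group P] [Group Q] (e : P ≃* Q) :
    (commutator P).index = (commutator Q).index := by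
  have h : (commutator P).map e.toMonoidHom = commutator Q := by
    rw [commutator_def, commutator_def, Subgroup.map_commutator, ← MonoidHom.range_eq_map,
      MonoidHom.range_eq_top.2 e.surjective]
  rw [← h]
  exact (Subgroup.index_map_equiv (commutator P) e).symm

theorem Hyp.congr {H : Type v} [Group H] (h : Hyp p n G) (e : G ≃* H) : Hyp p n H := by
  refine ⟨h.prime, h.odd, h.five, ?_, ?_, ?_, ?_, ?_, ?_⟩
  · rw [← Nat.card_congr e.toEquiv]
    exact h.val
  · intro P hP
    rw [← index_commutator_congr (comapEquiv e P)]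
    exact h.derived _ (by rw [card_comap, hP])
  · intro P hP
    rw [← Nat.card_congr (Subgroup.centerCongr (comapEquiv e P)).toEquiv]
    exact h.center _ (by rw [card_comap, hP])
  · intro A hA hp
    rw [← card_comap e A]
    refine h.ab _ ⟨⟨fun a b => ?_⟩⟩ (hp.of_equiv (comapEquiv e A).symm)
    apply (comapEquiv e A).injective
    rw [map_mul, map_mul]
    exact hA.is_comm.comm _ _
  · intro A hA
    rw [← card_comap e A]
    refine h.rank _ ⟨⟨⟨fun a b => ?_⟩⟩, fun a ha => ?_⟩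
    · apply (comapEquiv e A).injective
      rw [map_mul, map_mul]
      exact hA.1.is_comm.comm _ _
    · apply e.injective
      rw [map_pow, map_one]
      exact hA.2 _ ha
  · intro R hR hc
    obtain ⟨φ, hφ⟩ := h.aut (R.comap e.toMonoidHom) (hR.of_equiv (comapEquiv e R).symm)
      (by rwa [card_comap])
    have hmem : ∀ x : H, x ∈ Subgroup.normalizer (R : Set H) →
        e.symm x ∈ Subgroup.normalizer ((R.comap e.toMonoidHom : Subgroup G) : Set G) := by
      intro x hx
      rw [Subgroup.mem_normalizer_iff] at hx ⊢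
      intro y
      have h1 := hx (e y)
      change e y ∈ R ↔ e (e.symm x * y * (e.symm x)⁻¹) ∈ R
      rw [map_mul, map_mul, map_inv, e.apply_symm_apply]
      exact h1
    let f : Subgroup.normalizer (R : Set H) →*
        Subgroup.normalizer ((R.comap e.toMonoidHom : Subgroup G) : Set G) :=
      (e.symm.toMonoidHom.comp (Subgroup.normalizer (R : Set H)).subtype).codRestrict _
        (fun x => hmem x x.2)
    refine ⟨φ.comp f, fun g => ?_⟩
    rw [MonoidHom.comp_apply, hφ]
    refine exists_congr fun k => ?_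
    change (e.symm (g : H)) ^ p ^ k ∈ _ ↔ _
    rw [← map_pow, Subgroup.mem_centralizer_iff, Subgroup.mem_centralizer_iff]
    constructor
    · intro h1 y hy
      have h2 := h1 (e.symm y) (by change e (e.symm y) ∈ R; rwa [e.apply_symm_apply])
      rw [← map_mul, ← map_mul] at h2
      exact e.symm.injective h2
    · intro h1 y hy
      have h2 := h1 (e y) hy
      apply e.injective
      rw [map_mul, map_mul, e.apply_symm_apply]
      exact h2

section

variable [Finite G]

omit [Finite G] in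
theorem Hyp.false_of_abelian (h : Hyp p n G) (A : Subgroup G) (hA : IsMulCommutative A) (hp : IsPGroup p A)
    (hc : p ^ (Nat.card G).factorization p ≤ p * Nat.card A) : False := by
  have h1 := h.ab A hA hp
  rw [h.val] at hc
  have h2 : p ^ n ≤ p ^ (n - 1) := by
    refine hc.trans ?_
    have := h.five
    calc p * Nat.card A ≤ p * p ^ (n - 2) := Nat.mul_le_mul_left p h1
      _ = p ^ (n - 1) := by rw [← pow_succ', show n - 2 + 1 = n - 1 by omega]
  have h3 := (Nat.pow_le_pow_iff_right h.prime.one_lt).1 h2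
  have := h.five
  omega

theorem Hyp.false_of_comm (h : Hyp p n G) (P : Sylow p G) (hP : ∀ x ∈ P, ∀ y ∈ P, x * y = y * x) : False := by
  have : Fact p.Prime := ⟨h.prime⟩
  refine h.false_of_abelian P ⟨⟨fun a b => Subtype.ext (hP a.1 a.2 b.1 b.2)⟩⟩ P.isPGroup' ?_
  rw [P.card_eq_multiplicity]
  exact Nat.le_mul_of_pos_left _ h.prime.pos

theorem Hyp.false_of_surj (h : Hyp p n G) {H : Type v} [Group H] [Finite H] (φ : H →* G)
    (hφ : Function.Surjective φ) (Q : Sylow p H) (hQ : ∀ x ∈ Q, ∀ y ∈ Q, x * y = y * x) : False := by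
  have : Fact p.Prime := ⟨h.prime⟩
  refine h.false_of_comm (Q.mapSurjective hφ) ?_
  intro x hx y hy
  have hx1 : x ∈ ((Q.mapSurjective hφ : Sylow p G) : Subgroup G) := hx
  have hy1 : y ∈ ((Q.mapSurjective hφ : Sylow p G) : Subgroup G) := hy
  rw [Sylow.coe_mapSurjective] at hx1 hy1
  obtain ⟨a, ha, rfl⟩ := hx1
  obtain ⟨b, hb, rfl⟩ := hy1
  rw [← map_mul, ← map_mul, hQ a ha b hb]

omit [Finite G] in
theorem mem_centralizer_of_pow_dvd {R : Subgroup G} {g : G} {m l : ℕ} (hm : g ^ m ∈ Subgroup.centralizer (R : Set G))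
    (hl : m ∣ l) : g ^ l ∈ Subgroup.centralizer (R : Set G) := by
  obtain ⟨c, rfl⟩ := hl
  rw [pow_mul]
  exact pow_mem hm c

/-- a perfect group which normalizes a `p`-subgroup of order at least `p ^ 3` centralizes it -/
theorem Hyp.centralize_of_perfect (h : Hyp p n G) {R : Subgroup G} (hR : IsPGroup p R) (hc : p ^ 3 ≤ Nat.card R)
    {L : Type v} [Group L] (f : L →* G) (hf : ∀ x, f x ∈ Subgroup.normalizer (R : Set G))
    (hL : commutator L = ⊤) (x : L) : f x ∈ Subgroup.centralizer (R : Set G) := by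
  have : Fact p.Prime := ⟨h.prime⟩
  obtain ⟨φ, hφ⟩ := h.aut R hR hc
  let f' : L →* Subgroup.normalizer (R : Set G) := f.codRestrict _ hf
  -- `φ ∘ f'` is trivial
  have h1 : ∀ x, φ (f' x) = 1 := by
    intro x
    have h2 : commutator L ≤ (φ.comp f').ker := by
      rw [commutator_def, Subgroup.commutator_le]
      intro a _ b _
      rw [MonoidHom.mem_ker, map_commutatorElement, commutatorElement_eq_one_iff_mul_comm]
      exact mul_comm _ _
    rw [hL] at h2
    exact h2 (Subgroup.mem_top x)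
  -- the image in the quotient by the centralizer is a perfect `p`-group
  let C : Subgroup (Subgroup.normalizer (R : Set G)) :=
    (Subgroup.centralizer (R : Set G)).subgroupOf (Subgroup.normalizer (R : Set G))
  have hCn : C.Normal := by
    refine ⟨fun c hc g => ?_⟩
    rw [Subgroup.mem_subgroupOf, Subgroup.mem_centralizer_iff] at hc ⊢
    intro y hy
    have hg := g.2
    have h3 : (g : G)⁻¹ * y * g ∈ R := by
      have h4 := (Subgroup.mem_normalizer_iff.1 (inv_mem hg) y).1 hy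
      rwa [inv_inv] at h4
    have h4 := hc _ h3
    change y * ((g : G) * c * (g : G)⁻¹) = (g : G) * c * (g : G)⁻¹ * y
    calc y * ((g : G) * c * (g : G)⁻¹) = g * ((g : G)⁻¹ * y * g * c) * (g : G)⁻¹ := by group
      _ = g * (c * ((g : G)⁻¹ * y * g)) * (g : G)⁻¹ := by rw [h4]
      _ = (g : G) * c * (g : G)⁻¹ * y := by group
  let q : L →* (Subgroup.normalizer (R : Set G)) ⧸ C := (QuotientGroup.mk' C).comp f'
  have h5 : IsPGroup p q.range := by
    rintro ⟨_, x, rfl⟩
    obtain ⟨k, hk⟩ := (hφ _).1 (h1 x)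
    refine ⟨k, Subtype.ext ?_⟩
    change (q x) ^ p ^ k = 1
    rw [← map_pow]
    change ((f' (x ^ p ^ k) : Subgroup.normalizer (R : Set G)) : (Subgroup.normalizer (R : Set G)) ⧸ C) = 1
    rw [QuotientGroup.eq_one_iff, map_pow]
    exact hk
  have h6 : Group.IsNilpotent q.range := h5.isNilpotent
  have h7 : commutator q.range = ⊤ := by
    have h8 : (commutator L).map q.rangeRestrict = commutator q.range := by
      rw [commutator_def, commutator_def, Subgroup.map_commutator, ← MonoidHom.range_eq_map,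
        MonoidHom.range_eq_top.2 q.rangeRestrict_surjective]
    rw [← h8, hL, ← MonoidHom.range_eq_map, MonoidHom.range_eq_top.2 q.rangeRestrict_surjective]
  have h9 : Subsingleton q.range := by
    have hsol : Group.IsSolvable q.range := inferInstance
    rw [← not_nontrivial_iff_subsingleton]
    intro hnt
    exact (Group.IsSolvable.commutator_lt_top_of_nontrivial q.range).ne h7
  have h10 : q x = 1 := congrArg Subtype.val (Subsingleton.elim (q.rangeRestrict x) 1)
  have h11 : f' x ∈ C := (QuotientGroup.eq_one_iff _).1 h10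
  exact h11

omit [Finite G] in
/-- the `(p - 1)`-st power of an element of `N_G(R)` induces a `p`-element -/
theorem Hyp.exists_pow (h : Hyp p n G) {R : Subgroup G} (hR : IsPGroup p R) (hc : p ^ 3 ≤ Nat.card R)
    {g : G} (hg : g ∈ Subgroup.normalizer (R : Set G)) :
    ∃ k : ℕ, g ^ ((p - 1) * p ^ k) ∈ Subgroup.centralizer (R : Set G) := by
  have : Fact p.Prime := ⟨h.prime⟩
  obtain ⟨φ, hφ⟩ := h.aut R hR hc
  have h1 : φ (⟨g, hg⟩ ^ (p - 1)) = 1 := by
    rw [map_pow]
    exact ZMod.units_pow_card_sub_one_eq_one p _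
  obtain ⟨k, hk⟩ := (hφ _).1 h1
  refine ⟨k, ?_⟩
  rw [pow_mul]
  exact hk

omit [Finite G] in
/-- no two elements of `N_G(R)` of prime order `r ≠ p` modulo `C_G(R)` are independent -/
theorem Hyp.false_of_pair (h : Hyp p n G) {R : Subgroup G} (hR : IsPGroup p R) (hc : p ^ 3 ≤ Nat.card R)
    {g₁ g₂ : G} (hg₁ : g₁ ∈ Subgroup.normalizer (R : Set G)) (hg₂ : g₂ ∈ Subgroup.normalizer (R : Set G))
    {r : ℕ} (hr : r.Prime) (h₁ : g₁ ^ r ∈ Subgroup.centralizer (R : Set G))
    (h₂ : g₂ ^ r ∈ Subgroup.centralizer (R : Set G))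
    (hind : ∀ (i j k : ℕ), (g₁ ^ i * g₂ ^ j) ^ p ^ k ∈ Subgroup.centralizer (R : Set G) → r ∣ i ∧ r ∣ j) : False := by
  have : Fact p.Prime := ⟨h.prime⟩
  obtain ⟨φ, hφ⟩ := h.aut R hR hc
  set a := φ ⟨g₁, hg₁⟩ with ha
  set b := φ ⟨g₂, hg₂⟩ with hb
  have ha1 : a ^ r = 1 := by
    rw [ha, ← map_pow]
    exact (hφ _).2 ⟨0, by rw [pow_zero, pow_one]; exact h₁⟩
  have hb1 : b ^ r = 1 := by
    rw [hb, ← map_pow]
    exact (hφ _).2 ⟨0, by rw [pow_zero, pow_one]; exact h₂⟩
  have key : ∀ i j : ℕ, a ^ i * b ^ j = 1 → r ∣ i ∧ r ∣ j := by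
    intro i j hij
    have h3 : φ (⟨g₁, hg₁⟩ ^ i * ⟨g₂, hg₂⟩ ^ j) = 1 := by
      rw [map_mul, map_pow, map_pow]
      exact hij
    obtain ⟨k, hk⟩ := (hφ _).1 h3
    exact hind i j k hk
  have ha2 : a ≠ 1 := by
    intro h4
    have := (key 1 0 (by rw [h4, one_pow, pow_zero, one_mul])).1
    exact hr.one_lt.ne' (Nat.dvd_one.1 this)
  have hoa : orderOf a = r := by
    have : Fact r.Prime := ⟨hr⟩
    exact orderOf_eq_prime ha1 ha2
  -- `b` is a power of `a`
  have h5 : b ∈ Subgroup.zpowers a := by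
    have h6 : Nat.card (Subgroup.zpowers a) = r := by rw [Nat.card_zpowers, hoa]
    have hcyc : IsCyclic (ZMod p)ˣ := inferInstance
    have h7 := IsCyclic.card_pow_eq_one_le (α := (ZMod p)ˣ) (n := r) hr.pos
    classical
    have h8 : (Subgroup.zpowers a : Set (ZMod p)ˣ).toFinset ⊆
        Finset.univ.filter (fun x : (ZMod p)ˣ => x ^ r = 1) := by
      intro x hx
      rw [Set.mem_toFinset] at hx
      rw [Finset.mem_filter]
      refine ⟨Finset.mem_univ _, ?_⟩
      obtain ⟨m, rfl⟩ := Subgroup.mem_zpowers_iff.1 hx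
      rw [← zpow_natCast, ← zpow_mul, mul_comm, zpow_mul, zpow_natCast, ha1, one_zpow]
    have h9 : (Subgroup.zpowers a : Set (ZMod p)ˣ).toFinset.card = r := by
      rw [← Set.ncard_eq_toFinset_card', ← Nat.card_coe_set_eq]
      exact h6
    have h10 := Finset.eq_of_subset_of_card_le h8 (by rw [h9]; exact h7)
    have h11 : b ∈ Finset.univ.filter (fun x : (ZMod p)ˣ => x ^ r = 1) := by
      rw [Finset.mem_filter]
      exact ⟨Finset.mem_univ _, hb1⟩
    rw [← h10, Set.mem_toFinset] at h11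
    exact h11
  obtain ⟨m, hm⟩ := (Submonoid.mem_powers_iff _ _).1 (mem_powers_iff_mem_zpowers.2 h5)
  have h12 : a ^ (m * (r - 1)) * b ^ 1 = 1 := by
    rw [← hm, pow_one, ← pow_add, show m * (r - 1) + m = r * m by
      obtain ⟨s, hs⟩ : ∃ s, r = s + 1 := ⟨r - 1, by have := hr.pos; omega⟩
      rw [hs, Nat.add_sub_cancel]; ring, pow_mul, ha1, one_pow]
  have := (key _ _ h12).2
  exact hr.one_lt.ne' (Nat.dvd_one.1 this)

/-- an element of `N_X(R)` of prime order `r ≠ p` modulo `C_X(R)`, `R` a `p`-subgroup of order at least `p ^ c` -/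
def HasAut (p c r : ℕ) (X : Type v) [Group X] : Prop :=
  ∃ R : Subgroup X, IsPGroup p R ∧ p ^ c ≤ Nat.card R ∧
    ∃ w ∈ Subgroup.normalizer (R : Set X), w ^ r ∈ Subgroup.centralizer (R : Set X) ∧
      w ∉ Subgroup.centralizer (R : Set X)

theorem dvd_of_pow_mem {X : Type v} [Group X] {C : Subgroup X} {w : X} {r i : ℕ} (hr : r.Prime)
    (h1 : w ^ r ∈ C) (h2 : w ∉ C) (h3 : w ^ i ∈ C) : r ∣ i := by
  by_contra h4
  apply h2
  have h5 : Nat.Coprime i r := ((Nat.Prime.coprime_iff_not_dvd hr).2 h4).symm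
  have h6 : w ^ (Nat.gcd i r : ℤ) ∈ C := by
    rw [Nat.gcd_eq_gcd_ab, zpow_add, zpow_mul, zpow_mul, zpow_natCast, zpow_natCast]
    exact mul_mem (zpow_mem h3 _) (zpow_mem h1 _)
  rwa [h5, Nat.cast_one, zpow_one] at h6

theorem exists_hasAut_of_forall {X : Type v} [Group X] [Finite X] {c : ℕ} {R : Subgroup X}
    (hR : IsPGroup p R) (hc : p ^ c ≤ Nat.card R) {w : X} (hw : w ∈ Subgroup.normalizer (R : Set X))
    (hk : ∀ k : ℕ, w ^ p ^ k ∉ Subgroup.centralizer (R : Set X)) : ∃ r : ℕ, r.Prime ∧ r ≠ p ∧ HasAut p c r X := by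
  -- the order of `w` modulo the centralizer
  have hex : ∃ m : ℕ, 0 < m ∧ w ^ m ∈ Subgroup.centralizer (R : Set X) :=
    ⟨orderOf w, orderOf_pos w, by rw [pow_orderOf_eq_one]; exact one_mem _⟩
  classical
  set m := Nat.find hex with hm
  obtain ⟨hm0, hmC⟩ := Nat.find_spec hex
  have hmin : ∀ i, 0 < i → w ^ i ∈ Subgroup.centralizer (R : Set X) → m ≤ i := fun i h1 h2 =>
    Nat.find_min' hex ⟨h1, h2⟩
  -- a prime divisor of `m` different from `p`
  have h1 : ∃ r : ℕ, r.Prime ∧ r ∣ m ∧ r ≠ p := by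
    by_contra hno
    push Not at hno
    have h2 : m = p ^ m.primeFactorsList.length :=
      Nat.eq_prime_pow_of_unique_prime_dvd hm0.ne' (fun {d} hd hdm => hno d hd hdm)
    apply hk m.primeFactorsList.length
    rw [← h2]
    exact hmC
  obtain ⟨r, hr, ⟨l, hl⟩, hrp⟩ := h1
  have hl0 : 0 < l := Nat.pos_of_ne_zero (by rintro rfl; rw [mul_zero] at hl; exact hm0.ne' hl)
  refine ⟨r, hr, hrp, R, hR, hc, w ^ l, pow_mem hw _, ?_, ?_⟩
  · rw [← pow_mul, mul_comm, ← hl]
    exact hmC
  · intro h2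
    have h3 := hmin l hl0 h2
    have h4 : l < m := by
      rw [hl]
      exact lt_mul_of_one_lt_left hl0 hr.one_lt
    omega

/-- groups without a normal `p`-complement -/
theorem exists_hasAut {X : Type v} [Group X] [Finite X] (hp : p.Prime) (hX : ¬ HasNormalPComplement p X) :
    ∃ r : ℕ, r.Prime ∧ r ≠ p ∧ HasAut p 1 r X := by
  have : Fact p.Prime := ⟨hp⟩
  rw [Cfsg.Agent.Transfer.FrobeniusFusion.hasNormalPComplement_iff_localCondition] at hX
  unfold Cfsg.Agent.Transfer.FrobeniusFusion.LocalCondition at hX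
  push Not at hX
  obtain ⟨D, hD, g, hg, hgp, hgC⟩ := hX
  refine exists_hasAut_of_forall hD ?_ hg ?_
  · obtain ⟨m, hm⟩ := IsPGroup.iff_card.1 hD
    rw [hm, pow_one]
    have h1 : m ≠ 0 := by
      rintro rfl
      rw [pow_zero] at hm
      apply hgC
      have h2 : D = ⊥ := Subgroup.card_eq_one.1 hm
      rw [h2, Subgroup.mem_centralizer_iff]
      intro y hy
      rw [SetLike.mem_coe, Subgroup.mem_bot] at hy
      rw [hy, one_mul, mul_one]
    calc p = p ^ 1 := (pow_one p).symm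
      _ ≤ p ^ m := Nat.pow_le_pow_right hp.pos (by omega)
  · intro k hk
    apply hgC
    have h1 : Nat.Coprime (p ^ k) (orderOf g) := (Nat.Coprime.pow_right k hgp).symm
    have h2 : g ^ (Nat.gcd (p ^ k) (orderOf g) : ℤ) ∈ Subgroup.centralizer (D : Set X) := by
      rw [Nat.gcd_eq_gcd_ab, zpow_add, zpow_mul, zpow_mul, zpow_natCast, zpow_natCast, pow_orderOf_eq_one,
        one_zpow, mul_one]
      exact zpow_mem hk _
    rwa [h1, Nat.cast_one, zpow_one] at h2

omit [Finite G] in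
/-- the two-factor argument -/
theorem Hyp.false_of_prod (h : Hyp p n G) {X : Type v} {Y : Type w} [Group X] [Group Y] {r : ℕ} (hr : r.Prime)
    (hrp : r ≠ p) {A : Subgroup X} {B : Subgroup Y} (hA : IsPGroup p A) (hB : IsPGroup p B)
    (hAB : p ^ 3 ≤ Nat.card A * Nat.card B)
    {a : X} (ha : a ∈ Subgroup.normalizer (A : Set X)) (ha1 : a ^ r ∈ Subgroup.centralizer (A : Set X))
    (ha2 : a ∉ Subgroup.centralizer (A : Set X))
    {b : Y} (hb : b ∈ Subgroup.normalizer (B : Set Y)) (hb1 : b ^ r ∈ Subgroup.centralizer (B : Set Y))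
    (hb2 : b ∉ Subgroup.centralizer (B : Set Y)) (f : X × Y →* G)
    (hf : ∀ z : X × Y, (∃ k : ℕ, z ^ p ^ k = 1) → f z = 1 → z = 1) : False := by
  have hAB' : IsPGroup p (A.prod B) := by
    intro z
    obtain ⟨hz1, hz2⟩ := Subgroup.mem_prod.1 z.2
    obtain ⟨k, hk⟩ := hA ⟨z.1.1, hz1⟩
    obtain ⟨l, hl⟩ := hB ⟨z.1.2, hz2⟩
    have hk' := congrArg Subtype.val hk
    have hl' := congrArg Subtype.val hl
    simp only [Subgroup.coe_pow, Subgroup.coe_one] at hk' hl'
    refine ⟨k + l, Subtype.ext (Prod.ext ?_ ?_)⟩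
    · change z.1.1 ^ p ^ (k + l) = 1
      rw [pow_add, pow_mul, hk', one_pow]
    · change z.1.2 ^ p ^ (k + l) = 1
      rw [pow_add, mul_comm, pow_mul, hl', one_pow]
  have hinj : ∀ z ∈ A.prod B, f z = 1 → z = 1 := by
    intro z hz h1
    obtain ⟨k, hk⟩ := hAB' ⟨z, hz⟩
    exact hf z ⟨k, congrArg Subtype.val hk⟩ h1
  have hRp : IsPGroup p ((A.prod B).map f) := hAB'.map f
  have hRc : p ^ 3 ≤ Nat.card ((A.prod B).map f) := by
    have h1 : Function.Injective (f.comp (A.prod B).subtype) := by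
      rw [injective_iff_map_eq_one]
      intro z hz
      exact Subtype.ext (hinj z.1 z.2 hz)
    have h2 : (A.prod B).map f = (f.comp (A.prod B).subtype).range := by
      rw [MonoidHom.range_comp, Subgroup.range_subtype]
    rw [h2, ← Nat.card_congr (MonoidHom.ofInjective h1).toEquiv,
      Nat.card_congr (Subgroup.prodEquiv A B).toEquiv, Nat.card_prod]
    exact hAB
  -- the elements `f (a, 1)` and `f (1, b)` normalize `f (A × B)`
  have hnorm : ∀ (x : X) (y : Y), x ∈ Subgroup.normalizer (A : Set X) → y ∈ Subgroup.normalizer (B : Set Y) →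
      f (x, y) ∈ Subgroup.normalizer (((A.prod B).map f : Subgroup G) : Set G) := by
    intro x y hx hy
    have h1 : ∀ (x : X) (y : Y), x ∈ Subgroup.normalizer (A : Set X) → y ∈ Subgroup.normalizer (B : Set Y) →
        ∀ g ∈ (A.prod B).map f, f (x, y) * g * (f (x, y))⁻¹ ∈ (A.prod B).map f := by
      rintro x y hx hy _ ⟨z, hz, rfl⟩
      obtain ⟨hz1, hz2⟩ := Subgroup.mem_prod.1 hz
      refine ⟨(x, y) * z * (x, y)⁻¹, Subgroup.mem_prod.2 ⟨?_, ?_⟩, by rw [map_mul, map_mul, map_inv]⟩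
      · exact (Subgroup.mem_normalizer_iff.1 hx z.1).1 hz1
      · exact (Subgroup.mem_normalizer_iff.1 hy z.2).1 hz2
    rw [Subgroup.mem_normalizer_iff]
    intro g
    refine ⟨h1 x y hx hy g, fun h2 => ?_⟩
    have h3 := h1 x⁻¹ y⁻¹ (inv_mem hx) (inv_mem hy) _ h2
    have h4 : f (x⁻¹, y⁻¹) = (f (x, y))⁻¹ := by rw [← map_inv]; rfl
    rw [h4] at h3
    have h5 : (f (x, y))⁻¹ * (f (x, y) * g * (f (x, y))⁻¹) * (f (x, y))⁻¹⁻¹ = g := by group
    rwa [h5] at h3
  have hcent : ∀ (x : X) (y : Y), x ∈ Subgroup.centralizer (A : Set X) → y ∈ Subgroup.centralizer (B : Set Y) →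
      f (x, y) ∈ Subgroup.centralizer (((A.prod B).map f : Subgroup G) : Set G) := by
    intro x y hx hy
    rw [Subgroup.mem_centralizer_iff] at hx hy ⊢
    rintro _ ⟨z, hz, rfl⟩
    obtain ⟨hz1, hz2⟩ := Subgroup.mem_prod.1 hz
    rw [← map_mul, ← map_mul]
    congr 1
    exact Prod.ext (hx _ hz1) (hy _ hz2)
  have hcent' : ∀ (x : X) (y : Y), x ∈ Subgroup.normalizer (A : Set X) → y ∈ Subgroup.normalizer (B : Set Y) →
      f (x, y) ∈ Subgroup.centralizer (((A.prod B).map f : Subgroup G) : Set G) →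
      x ∈ Subgroup.centralizer (A : Set X) ∧ y ∈ Subgroup.centralizer (B : Set Y) := by
    intro x y hx hy hxy
    rw [Subgroup.mem_centralizer_iff] at hxy
    have h1 : ∀ z ∈ A.prod B, z * (x, y) * z⁻¹ * (x, y)⁻¹ = 1 := by
      intro z hz
      obtain ⟨hz1, hz2⟩ := Subgroup.mem_prod.1 hz
      apply hinj
      · refine Subgroup.mem_prod.2 ⟨?_, ?_⟩
        · change z.1 * x * z.1⁻¹ * x⁻¹ ∈ A
          have h2 := (Subgroup.mem_normalizer_iff.1 hx z.1⁻¹).1 (inv_mem hz1)
          have h3 : z.1 * x * z.1⁻¹ * x⁻¹ = z.1 * (x * z.1⁻¹ * x⁻¹) := by group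
          rw [h3]
          exact mul_mem hz1 h2
        · change z.2 * y * z.2⁻¹ * y⁻¹ ∈ B
          have h2 := (Subgroup.mem_normalizer_iff.1 hy z.2⁻¹).1 (inv_mem hz2)
          have h3 : z.2 * y * z.2⁻¹ * y⁻¹ = z.2 * (y * z.2⁻¹ * y⁻¹) := by group
          rw [h3]
          exact mul_mem hz2 h2
      · have h4 := hxy (f z) ⟨z, hz, rfl⟩
        rw [map_mul, map_mul, map_mul, map_inv, map_inv, h4]
        group
    constructor
    · rw [Subgroup.mem_centralizer_iff]
      intro u hu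
      have h2 := congrArg Prod.fst (h1 (u, 1) (Subgroup.mem_prod.2 ⟨hu, one_mem _⟩))
      change u * x * u⁻¹ * x⁻¹ = 1 at h2
      rwa [mul_inv_eq_one, mul_inv_eq_iff_eq_mul] at h2
    · rw [Subgroup.mem_centralizer_iff]
      intro u hu
      have h2 := congrArg Prod.snd (h1 (1, u) (Subgroup.mem_prod.2 ⟨one_mem _, hu⟩))
      change u * y * u⁻¹ * y⁻¹ = 1 at h2
      rwa [mul_inv_eq_one, mul_inv_eq_iff_eq_mul] at h2
  refine h.false_of_pair hRp hRc (hnorm a 1 ha (one_mem _)) (hnorm 1 b (one_mem _) hb) hr ?_ ?_ ?_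
  · rw [← map_pow]
    refine hcent _ _ ha1 ?_
    change (1 : Y) ^ r ∈ _
    rw [one_pow]
    exact one_mem _
  · rw [← map_pow]
    refine hcent _ _ ?_ hb1
    change (1 : X) ^ r ∈ _
    rw [one_pow]
    exact one_mem _
  · intro i j k hk
    rw [← map_pow, ← map_pow, ← map_mul, ← map_pow] at hk
    have h1 : (((a, 1) ^ i * (1, b) ^ j : X × Y) ^ p ^ k) = (a ^ (i * p ^ k), b ^ (j * p ^ k)) := by
      refine Prod.ext ?_ ?_
      · change (a ^ i * 1 ^ j) ^ p ^ k = a ^ (i * p ^ k)
        rw [one_pow, mul_one, pow_mul]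
      · change (1 ^ i * b ^ j) ^ p ^ k = b ^ (j * p ^ k)
        rw [one_pow, one_mul, pow_mul]
    rw [h1] at hk
    obtain ⟨h2, h3⟩ := hcent' _ _ (pow_mem ha _) (pow_mem hb _) hk
    have h4 := dvd_of_pow_mem hr ha1 ha2 h2
    have h5 := dvd_of_pow_mem hr hb1 hb2 h3
    have h6 : ¬ r ∣ p ^ k := fun h7 => hrp ((Nat.prime_dvd_prime_iff_eq hr h.prime).1 (hr.dvd_of_dvd_pow h7))
    exact ⟨(hr.dvd_mul.1 h4).resolve_right h6, (hr.dvd_mul.1 h5).resolve_right h6⟩

/-- `G` does not contain `X × X` if `X` induces a non-`p`-automorphism on a `p`-subgroup of order at least `p ^ 2` -/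
theorem Hyp.false_of_prod2 (h : Hyp p n G) {X : Type v} [Group X] {r : ℕ} (hr : r.Prime) (hrp : r ≠ p)
    (hX : HasAut p 2 r X) (f : X × X →* G)
    (hf : ∀ z : X × X, (∃ k : ℕ, z ^ p ^ k = 1) → f z = 1 → z = 1) : False := by
  obtain ⟨R, hR, hc, w, hw, hw1, hw2⟩ := hX
  refine h.false_of_prod hr hrp hR hR ?_ hw hw1 hw2 hw hw1 hw2 f hf
  calc p ^ 3 ≤ p ^ 4 := Nat.pow_le_pow_right h.prime.pos (by norm_num)
    _ = p ^ 2 * p ^ 2 := by rw [← pow_add]
    _ ≤ _ := Nat.mul_le_mul hc hc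

/-- `G` does not contain `X × Y` with non-`p`-automorphisms on a `p`-subgroup of order at least `p ^ 2` of `X` and on
a nontrivial `p`-subgroup of `Y` -/
theorem Hyp.false_of_prod12 (h : Hyp p n G) {X : Type v} {Y : Type w} [Group X] [Group Y] {r : ℕ} (hr : r.Prime)
    (hrp : r ≠ p) (hX : HasAut p 2 r X) (hY : HasAut p 1 r Y) (f : X × Y →* G)
    (hf : ∀ z : X × Y, (∃ k : ℕ, z ^ p ^ k = 1) → f z = 1 → z = 1) : False := by
  obtain ⟨R, hR, hc, w, hw, hw1, hw2⟩ := hX
  obtain ⟨T, hT, hd, v, hv, hv1, hv2⟩ := hY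
  refine h.false_of_prod hr hrp hR hT ?_ hw hw1 hw2 hv hv1 hv2 f hf
  calc p ^ 3 = p ^ 2 * p ^ 1 := by rw [← pow_add]
    _ ≤ _ := Nat.mul_le_mul hc hd

/-- `G` does not contain `X × X × X` with `X` not `p`-nilpotent -/
theorem Hyp.false_of_prod3 (h : Hyp p n G) {X : Type v} [Group X] [Finite X] (hX : ¬ HasNormalPComplement p X)
    (f : X × X × X →* G) (hf : ∀ z : X × X × X, (∃ k : ℕ, z ^ p ^ k = 1) → f z = 1 → z = 1) : False := by
  obtain ⟨r, hr, hrp, R, hR, hc, w, hw, hw1, hw2⟩ := exists_hasAut h.prime hX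
  rw [pow_one] at hc
  have hRR : IsPGroup p (R.prod R) := by
    intro z
    obtain ⟨hz1, hz2⟩ := Subgroup.mem_prod.1 z.2
    obtain ⟨k, hk⟩ := hR ⟨z.1.1, hz1⟩
    obtain ⟨l, hl⟩ := hR ⟨z.1.2, hz2⟩
    have hk' := congrArg Subtype.val hk
    have hl' := congrArg Subtype.val hl
    simp only [Subgroup.coe_pow, Subgroup.coe_one] at hk' hl'
    refine ⟨k + l, Subtype.ext (Prod.ext ?_ ?_)⟩
    · change z.1.1 ^ p ^ (k + l) = 1
      rw [pow_add, pow_mul, hk', one_pow]
    · change z.1.2 ^ p ^ (k + l) = 1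
      rw [pow_add, mul_comm, pow_mul, hl', one_pow]
  refine h.false_of_prod hr hrp hR hRR ?_ hw hw1 hw2 (b := (w, 1)) ?_ ?_ ?_ f hf
  · rw [Nat.card_congr (Subgroup.prodEquiv R R).toEquiv, Nat.card_prod]
    calc p ^ 3 = p * (p * p) := by ring
      _ ≤ _ := Nat.mul_le_mul hc (Nat.mul_le_mul hc hc)
  · rw [Subgroup.mem_normalizer_iff]
    intro z
    change z ∈ R.prod R ↔ (w, 1) * z * (w, 1)⁻¹ ∈ R.prod R
    rw [Subgroup.mem_prod, Subgroup.mem_prod]
    refine and_congr (Subgroup.mem_normalizer_iff.1 hw z.1) ?_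
    change _ ↔ 1 * z.2 * 1⁻¹ ∈ R
    rw [one_mul, inv_one, mul_one]
  · rw [Subgroup.mem_centralizer_iff] at hw1 ⊢
    intro z hz
    obtain ⟨hz1, hz2⟩ := Subgroup.mem_prod.1 hz
    refine Prod.ext (hw1 _ hz1) ?_
    change z.2 * 1 ^ r = 1 ^ r * z.2
    rw [one_pow, one_mul, mul_one]
  · intro h1
    apply hw2
    rw [Subgroup.mem_centralizer_iff] at h1 ⊢
    intro u hu
    exact congrArg Prod.fst (h1 (u, 1) (Subgroup.mem_prod.2 ⟨hu, one_mem _⟩))

end

end Cfsg.Agent.H782.Exo
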